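import Mathlib
import Cfsg.Agent.Lib.Helper9.Stem3

set_option autoImplicit false
set_option maxRecDepth 1000000

/-! A presentation of `G₂(3)` on generators `a`, `b` of orders 2 and 3 and `v = a b` of order 13,
and a presentation of a central extension: the relators `a ^ 2`, `b ^ 3`, `R1` and `R3` become
central of order dividing 216. -/

namespace Cfsg.Agent.Helper9.G23M

open Cfsg Cfsg.Agent.Helper9 Cfsg.Agent.Helper9.Stem3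

/-- The exact relator: a relator modified by central elements so that the exponent sums of `a` and
`b` are `-4` and `-3`. -/
def X : FG :=
  b⁻¹ * a⁻¹ * b⁻¹ * a⁻¹ * b⁻¹ * a⁻¹ * b⁻¹ * a⁻¹ * b⁻¹ * b⁻¹ * a⁻¹ * b⁻¹ * a⁻¹ * b⁻¹ * a⁻¹ * b *
  a⁻¹ * b⁻¹ * a⁻¹ * b * a⁻¹ * b * a⁻¹ * b * a⁻¹ * b * a⁻¹ * b⁻¹ * a⁻¹ * b⁻¹ * a * b⁻¹ * a * b *
  a * b⁻¹ * a * b * a * b * a * b⁻¹ * a * b * a * b * a * b * a

/-- A relator. -/
def R1 : FG :=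
  b⁻¹ * a * b⁻¹ * a * b⁻¹ * a * b⁻¹ * a * b⁻¹ * a * b⁻¹ * a * b⁻¹ * a * b⁻¹ * a * b⁻¹ * a * b⁻¹ *
  a * b⁻¹ * a * b * a * b⁻¹ * a * b⁻¹ * a * b⁻¹ * a * b⁻¹ * a * b⁻¹ * a * b⁻¹ * a * b⁻¹ * a *
  b⁻¹ * a * b⁻¹ * a * b⁻¹ * a * b⁻¹ * a * b * a

/-- A relator. -/
def R3 : FG :=
  b⁻¹ * a * b⁻¹ * a * b⁻¹ * a * b⁻¹ * a * b * a * b * a * b * a * b⁻¹ * a * b * a * b⁻¹ * a *
  b⁻¹ * a * b * a * b⁻¹ * a * b⁻¹ * a * b⁻¹ * a * b * a * b * a * b * a * b * a * b⁻¹ * a * b *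
  a * b * a * b⁻¹ * a * b * a

/-- The data of the two presentations. -/
def pres : Pres where
  X := X
  Rl := [a ^ 2, b ^ 3, R1, R3]
  q := 216

theorem es0_X : (es0 pres.X).toAdd = -4 := by decide +kernel

theorem es1_X : (es1 pres.X).toAdd = -3 := by decide +kernel

theorem es2_X : (es2 pres.X).toAdd = 0 := by decide +kernel

theorem a2_mem : a ^ 2 ∈ pres.Rl := by
  simp [pres]

theorem b3_mem : b ^ 3 ∈ pres.Rl := by
  simp [pres]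

theorem R1_mem : R1 ∈ pres.Rl := by
  simp [pres]

theorem R3_mem : R3 ∈ pres.Rl := by
  simp [pres]

theorem Rl_cases {R : FG} (h : R ∈ pres.Rl) : R = a ^ 2 ∨ R = b ^ 3 ∨ R = R1 ∨ R = R3 := by
  simpa [pres] using h

end Cfsg.Agent.Helper9.G23M
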