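import Mathlib
import Cfsg.Agent.Lib.Helper9.G23M.Defs
import Cfsg.Agent.Lib.Helper9.G23Mat

set_option autoImplicit false
set_option maxRecDepth 1000000
set_option maxHeartbeats 0

/-! The presented group of `G23M.Defs` maps onto the Chevalley group of type `G₂` over the field
with three elements. -/

namespace Cfsg.Agent.Helper9.G23M

open Matrix Cfsg Cfsg.Lie Cfsg.Agent.Helper9 Cfsg.Agent.Helper9.TC2 Cfsg.Spor
  Cfsg.Agent.Helper9.Stem3 Cfsg.Agent.Helper9.Vec14F3 Cfsg.Agent.Helper9.G23Mat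

/-- The matrices of the generators. -/
def Mgen : Fin 3 → GL chevG2.Idx (ZMod 3) := unitOf gA gAi gA_inv gAi_inv

/-- The root elements. -/
def Xgen : Fin 12 × ZMod 3 → GL chevG2.Idx (ZMod 3) := unitOf xr xri xr_inv xri_inv

theorem rel_extraG : ∀ r ∈ pres.extraG, ∀ j : Fin 14, ev gA gAi r.toWord (bas j) = bas j := by
  decide +kernel

theorem relsG_M : ∀ r ∈ pres.relsG, FreeGroup.lift Mgen r = 1 := by
  intro r hr
  exact lift_eq_one gA gAi gA_inv gAi_inv _ (rel_extraG r (relsG_cases hr))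

/-- The homomorphism to the general linear group. -/
noncomputable def theta : pres.PS →* GL chevG2.Idx (ZMod 3) := PresentedGroup.toGroup relsG_M

theorem theta_of (s : Fin 3) : theta (PresentedGroup.of s) = Mgen s :=
  PresentedGroup.toGroup.of relsG_M

theorem theta_mk (w : FG) : theta (PresentedGroup.mk pres.relsG w) = FreeGroup.lift Mgen w := rfl

theorem Xgen_mem (p : Fin 12 × ZMod 3) : Xgen p ∈ chevG2.group (ZMod 3) :=
  Subgroup.subset_closure ⟨p.1, p.2, (xMat_eq p.1 p.2).symm⟩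

theorem lift_Xgen_mem (w : FreeGroup (Fin 12 × ZMod 3)) :
    FreeGroup.lift Xgen w ∈ chevG2.group (ZMod 3) := by
  have h : (FreeGroup.lift Xgen).range ≤ chevG2.group (ZMod 3) := by
    apply FreeGroup.range_lift_le
    rintro _ ⟨p, rfl⟩
    exact Xgen_mem p
  exact h ⟨w, rfl⟩

theorem Mgen_eq (s : Fin 3) : Mgen s = FreeGroup.lift Xgen (gw s) := by
  apply Units.ext
  exact (lift_val_eq xr xri xr_inv xri_inv (gw s) (gA s) (gw_ev s)).symm

theorem theta_rw (p : Fin 12 × ZMod 3) :
    (theta (PresentedGroup.mk pres.relsG (rw p))).val = (xr p).toMat := by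
  rw [theta_mk]
  exact lift_val_eq gA gAi gA_inv gAi_inv (rw p) (xr p) (rw_ev p)

theorem theta_range : theta.range = chevG2.group (ZMod 3) := by
  apply le_antisymm
  · rw [MonoidHom.range_eq_map, ← PresentedGroup.closure_range_of, MonoidHom.map_closure,
      Subgroup.closure_le]
    rintro _ ⟨_, ⟨s, rfl⟩, rfl⟩
    rw [theta_of, Mgen_eq]
    exact lift_Xgen_mem _
  · unfold ChevalleyDatum.group
    rw [Subgroup.closure_le]
    rintro g ⟨r, t, hg⟩
    refine ⟨PresentedGroup.mk pres.relsG (rw (r, t)), ?_⟩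
    apply Units.ext
    rw [theta_rw, hg, xMat_eq]

theorem theta_v_ne : theta (PresentedGroup.of 2) ≠ 1 := by
  rw [theta_of]
  intro h
  have h1 : (Mgen 2).val *ᵥ (bas 0).toVec = (1 : Matrix I14 I14 (ZMod 3)) *ᵥ (bas 0).toVec := by
    rw [h]
    rfl
  change (gA 2).toMat *ᵥ (bas 0).toVec = _ at h1
  rw [toMat_mulVec, Matrix.one_mulVec] at h1
  have h2 := congrFun h1 (.inr 2)
  revert h2
  decide

end Cfsg.Agent.Helper9.G23M
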