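import Mathlib
import Cfsg.Agent.Lib.Helper9.G23M.Hub
import Cfsg.Agent.Lib.Helper9.G23M.Model
import Cfsg.Agent.Lib.Helper9.ChevFieldIso
import Cfsg.Agent.S1059

set_option autoImplicit false
set_option maxRecDepth 1000000

/-! The presented group of `G23M.Defs` is the Chevalley group of type `G₂` over a field with three
elements. -/

namespace Cfsg.Agent.Helper9.G23M

open Matrix Cfsg Cfsg.Lie Cfsg.Agent.Helper9 Cfsg.Agent.Helper9.TC2 Cfsg.Spor
  Cfsg.Agent.Helper9.Stem3

section Generic

variable {F : Type*} [Field F] [Fintype F]

theorem card_G2 (hF : Fintype.card F = 3) : Nat.card (chevG2.group F) = 4245696 := by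
  rw [Cfsg.Agent.S1059.result hF]
  norm_num

end Generic

theorem card_range : Nat.card theta.range = 4245696 := by
  rw [theta_range]
  exact card_G2 (ZMod.card 3)

theorem theta_bijective : Function.Bijective theta.rangeRestrict := by
  have : Finite pres.PS := hub.1
  rw [Nat.bijective_iff_surjective_and_card]
  refine ⟨theta.rangeRestrict_surjective, le_antisymm ?_ ?_⟩
  · rw [card_range]
    exact hub.2
  · exact Nat.card_le_card_of_surjective _ theta.rangeRestrict_surjective

/-- The isomorphism over the prime field. -/
noncomputable def iso3 : pres.PS ≃* chevG2.group (ZMod 3) :=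
  (MulEquiv.ofBijective theta.rangeRestrict theta_bijective).trans
    (MulEquiv.subgroupCongr theta_range)

section Generic

variable {F : Type*} [Field F] [Fintype F] (hF : Fintype.card F = 3)

/-- The prime field is the field `F`. -/
noncomputable def eF : ZMod 3 ≃+* F :=
  FiniteField.ringEquivOfCardEq ((ZMod.card 3).trans hF.symm)

/-- The isomorphism. -/
noncomputable def iso : pres.PS ≃* chevG2.group F :=
  iso3.trans (ChevFieldIso.groupCongr chevG2 (eF hF))

end Generic

theorem nu_v_ne_one : nu pres (PresentedGroup.of 2) ≠ 1 := by
  rw [nu_of]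
  intro h
  exact theta_v_ne (by rw [h, map_one])

end Cfsg.Agent.Helper9.G23M
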