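import Mathlib
import Cfsg.Agent.Lib.Helper9.G23M.CoverU
import Cfsg.Agent.Lib.Helper9.TCData.G23M0.Main
import Cfsg.Agent.Lib.Helper20.ZModHom

set_option autoImplicit false
set_option maxRecDepth 1000000

/-! The kernel of the covering group of `G₂(3)` has order 3: the lower bound comes from a
permutation representation of degree 1134 in which a central generator acts non trivially. -/

namespace Cfsg.Agent.Helper9.G23M

open Cfsg Cfsg.Agent.Helper9 Cfsg.Agent.Helper9.TC2 Cfsg.Agent.Helper9.TCData Cfsg.Spor
  Cfsg.Agent.Helper9.Stem3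

/-- The columns as permutations. -/
noncomputable def E (c : ℕ) : Equiv.Perm ℕ := sigPerm G23M0.permOK c

/-- Words acting trivially in the permutation representation. -/
def fixList : List FG := [v ^ 13, v⁻¹ * a * b, X] ++ pres.Rl.map (fun R => R * R * R) ++
  pres.Rl.map (fun R => cm R a) ++ pres.Rl.map (fun R => cm R b)

theorem hfixW : G23M0.fixWords = fixList.map (colWord cols) := by
  decide +kernel

theorem hzW : G23M0.zWord = colWord cols R3 := by
  decide +kernel

/-- The generators as permutations. -/
noncomputable def fP (i : Fin 3) : Equiv.Perm ℕ := E (cols.idxOf (i, true))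

theorem idx_lt (x : Fin 3) : cols.idxOf (x, true) < G23M0.tab.k := by
  fin_cases x <;> decide

theorem idx_false (x : Fin 3) :
    cols.idxOf (x, false) = G23M0.tab.inv (cols.idxOf (x, true)) := by
  fin_cases x <;> rfl

theorem lift_fP (r : FG) : FreeGroup.lift fP r = ((colWord cols r).map E).prod := by
  symm
  apply prod_colWord colsOK (FreeGroup.lift fP) E
  · intro x
    rw [FreeGroup.lift_apply_of]
    rfl
  · intro x _
    rw [FreeGroup.lift_apply_of, idx_false]
    exact sigPerm_inv G23M0.permOK (idx_lt x)
  · intro x hx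
    exact absurd (by fin_cases x <;> decide) hx

theorem word_lt (r : FG) : ∀ c ∈ colWord cols r, c < G23M0.tab.k :=
  colWord_lt colsOK r

theorem lift_eq_one_of_mem {r : FG} (h : r ∈ fixList) : FreeGroup.lift fP r = 1 := by
  rw [lift_fP]
  exact prod_sigPerm_eq_one G23M0.permOK G23M0.hFix
    (by rw [hfixW]; exact List.mem_map_of_mem h) (word_lt r)

theorem v13_memF : v ^ 13 ∈ fixList := by
  unfold fixList
  simp

theorem vab_memF : v⁻¹ * a * b ∈ fixList := by
  unfold fixList
  simp

theorem X_memF : X ∈ fixList := by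
  unfold fixList
  simp

theorem RRR_memF {R : FG} (hR : R ∈ pres.Rl) : R * R * R ∈ fixList := by
  unfold fixList
  simp only [List.mem_append, List.mem_map]
  exact Or.inl (Or.inl (Or.inr ⟨R, hR, rfl⟩))

theorem cma_memF {R : FG} (hR : R ∈ pres.Rl) : cm R a ∈ fixList := by
  unfold fixList
  simp only [List.mem_append, List.mem_map]
  exact Or.inl (Or.inr ⟨R, hR, rfl⟩)

theorem cmb_memF {R : FG} (hR : R ∈ pres.Rl) : cm R b ∈ fixList := by
  unfold fixList
  simp only [List.mem_append, List.mem_map]
  exact Or.inr ⟨R, hR, rfl⟩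

/-- The permutation representation of the covering group. -/
noncomputable def Psi : pres.PC →* Equiv.Perm ℕ :=
  PresentedGroup.toGroup (f := fP) (by
    intro r hr
    rcases extraC_cases (relsC_cases hr) with rfl | rfl | rfl | ⟨R, hR, rfl⟩ | ⟨R, hR, rfl⟩ |
      ⟨R, hR, rfl⟩
    · exact lift_eq_one_of_mem v13_memF
    · exact lift_eq_one_of_mem vab_memF
    · exact lift_eq_one_of_mem X_memF
    · have h3 : FreeGroup.lift fP R ^ 3 = 1 := by
        rw [pow_succ, pow_two, ← map_mul, ← map_mul]
        exact lift_eq_one_of_mem (RRR_memF hR)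
      rw [map_pow, show pres.q = 3 * 72 from rfl, pow_mul, h3, one_pow]
    · exact lift_eq_one_of_mem (cma_memF hR)
    · exact lift_eq_one_of_mem (cmb_memF hR))

theorem Psi_mk (r : FG) : Psi (PresentedGroup.mk pres.relsC r) = FreeGroup.lift fP r := rfl

theorem z3_ne_one : z pres R3 ≠ 1 := by
  intro h
  have h1 : Psi (z pres R3) 0 = 7 := by
    rw [z, Psi_mk, lift_fP, show E = sigPerm G23M0.permOK from rfl,
      (prod_sigPerm_apply G23M0.permOK _ (word_lt _) (by decide : 0 < G23M0.tab.n)).1, ← hzW]
    exact G23M0.hz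
  rw [h, map_one] at h1
  exact absurd h1 (by decide)

/-! ### The order of the kernel -/

theorem Z_eq : Z pres = Subgroup.zpowers (z pres R3) := by
  apply le_antisymm Z_le_zpowers
  rw [Subgroup.zpowers_le]
  exact Subgroup.subset_closure ⟨R3, R3_mem, rfl⟩

theorem orderOf_z3 : orderOf (z pres R3) = 3 := by
  have : Fact (Nat.Prime 3) := ⟨Nat.prime_three⟩
  exact orderOf_eq_prime z3_cube z3_ne_one

theorem card_Z : Nat.card (Z pres) = 3 := by
  rw [Z_eq, Nat.card_zpowers, orderOf_z3]

theorem card_ker : Nat.card (nu pres).ker = 3 := by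
  rw [ker_eq]
  exact card_Z

/-- The kernel is cyclic of order 3. -/
theorem ker_structure : Nonempty ((nu pres).ker ≃* Multiplicative (ZMod 3)) := by
  have : Fact (Nat.Prime 3) := ⟨Nat.prime_three⟩
  have : IsCyclic (nu pres).ker := isCyclic_of_prime_card card_ker
  exact Cfsg.Agent.Helper20.nonempty_mulEquiv_zmod_of_card 3 card_ker

instance finite_PC : Finite pres.PC := by
  have h1 : Finite (nu pres).ker := Nat.finite_of_card_ne_zero (by rw [card_ker]; norm_num)
  have h2 : Finite (pres.PC ⧸ (nu pres).ker) := by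
    have : Finite pres.PS := hub.1
    exact Finite.of_equiv _
      (QuotientGroup.quotientKerEquivOfSurjective (nu pres) nu_surjective).toEquiv.symm
  exact Finite.of_subgroup_quotient (nu pres).ker

end Cfsg.Agent.Helper9.G23M
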